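import Cfsg.Agent.H686.Odd.McLWords
import Cfsg.Agent.McLType.ThreeElts

/-!
# `McL`: the Sylow 3-subgroup of the centralizer of an element of order three ([3MCL-D], helper921)

`exists_S` : the centralizer of `s ^ 4` contains a Sylow 3-subgroup `S` of order 729 that is generated by `s ^ 4` and
elements of `C(s ^ 4)` of order 2 and 5.
-/

set_option autoImplicit false
set_option maxRecDepth 100000

namespace Cfsg.Agent.H921.TI

open Subgroup Equiv Cfsg.Agent.SporadicStructure.PermChain Cfsg.Agent.SporadicA.PermTab Cfsg.Agent.H904.CentChk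
  Cfsg.Agent.H904.McLCent Cfsg.Agent.McLType.X275 Cfsg.Agent.McLType.Gens Cfsg.Agent.McLType.Model Cfsg.Agent.H58.McLOdd
open Cfsg.Agent.H686.Odd.McL (s s6)
open Cfsg.Agent.McLType.ThreeElts (Ws P Sk π card_P)

/-- the words of `π i` -/
def W (i : ℕ) : List ℕ := (Ws.getD i []).map fun k : Fin 7 => (k : ℕ)

/-- the conjugating word -/
def gw : List ℕ := [4, 6, 0, 5]

/-- an element of order 5 -/
def ew : List ℕ := [0, 3, 4, 6, 4, 5, 2, 3, 4, 6, 5, 4, 3]

theorem chkA : (chk (pw s6 4) (cj gw (W 3)) && chk (W 0 ++ W 3) (W 3 ++ W 0) && chk (W 1 ++ W 3) (W 3 ++ W 1) &&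
    chk (W 2 ++ W 3) (W 3 ++ W 2) && chk (W 4 ++ W 3) (W 3 ++ W 4) && chk (W 5 ++ W 3) (W 3 ++ W 5)) = true := by
  decide +kernel

theorem chkB : (chk ([1] ++ W 3) (W 3 ++ [1]) && chk (pw ([1] ++ W 0) 2) [] && chk (pw ([1] ++ W 1) 2) [] &&
    chk (pw ([1] ++ W 2) 2) [] && chk (pw ([1] ++ W 5) 2) []) = true := by
  decide +kernel

theorem chkC : (chk (ew ++ W 3) (W 3 ++ ew) && chk (pw ew 5) [] && chk (pw (ew ++ W 4) 5) []) = true := by
  decide +kernel

theorem s4_eq : s ^ 4 = wd gw * wd (W 3) * (wd gw)⁻¹ := by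
  have h := chkA
  simp only [Bool.and_eq_true] at h
  rw [← wd_cj, ← eq_of_chk h.1.1.1.1.1, wd_pw]
  rfl

theorem ψ_wd_W (i : ℕ) : ψ (wd (W i)) = π i := by
  have key : ∀ l : List (Fin 7), ψ (wd (l.map fun k : Fin 7 => (k : ℕ))) = (l.map σ).prod := by
    intro l
    induction l with
    | nil => exact map_one ψ
    | cons k l ih =>
      rw [List.map_cons, wd_cons, map_mul, ih, List.map_cons, List.prod_cons]
      congr 1
      rw [lt, ψ_m]
      congr 1
      exact Fin.ext (Nat.mod_eq_of_lt k.2)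
  exact key _

/-- the Sylow 3-subgroup in the model -/
noncomputable def S0 : Subgroup G1 := closure (Set.range fun i : Fin 6 => wd (W i))

theorem card_S0 : Nat.card S0 = 729 := by
  have h1 : S0.map ψ = P := by
    rw [S0, MonoidHom.map_closure, P]
    congr 1
    ext x
    constructor
    · rintro ⟨_, ⟨i, rfl⟩, rfl⟩
      exact ⟨i, Nat.zero_le _, i.2, ψ_wd_W i⟩
    · rintro ⟨i, -, hi, rfl⟩
      exact ⟨wd (W i), ⟨⟨i, hi⟩, rfl⟩, ψ_wd_W i⟩
  rw [← card_P, ← h1]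
  exact (Nat.card_congr (S0.equivMapOfInjective ψ ψ_injective).toEquiv)

theorem comm3 : ∀ i : Fin 6, wd (W i) * wd (W 3) = wd (W 3) * wd (W i) := by
  have h := chkA
  simp only [Bool.and_eq_true] at h
  obtain ⟨⟨⟨⟨⟨-, h0⟩, h1⟩, h2⟩, h4⟩, h5⟩ := h
  intro i
  fin_cases i
  · exact comm_of_chk h0
  · exact comm_of_chk h1
  · exact comm_of_chk h2
  · rfl
  · exact comm_of_chk h4
  · exact comm_of_chk h5

/-- the subgroup generated by `π 3` and the `3'`-elements of its centralizer -/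
noncomputable def C3 : Subgroup G1 := closure ({wd (W 3)} ∪ {g : G1 | g * wd (W 3) = wd (W 3) * g ∧ ¬ 3 ∣ orderOf g})

theorem mem_C3 {g : G1} (hg : g * wd (W 3) = wd (W 3) * g) {k : ℕ} (hk : g ^ k = 1) (h3 : ¬ 3 ∣ k) : g ∈ C3 :=
  subset_closure (Or.inr ⟨hg, fun h => h3 (h.trans (orderOf_dvd_of_pow_eq_one hk))⟩)

theorem comm_mul {x y z : G1} (h1 : x * z = z * x) (h2 : y * z = z * y) : x * y * z = z * (x * y) := by
  rw [mul_assoc, h2, ← mul_assoc, h1, mul_assoc]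

theorem S0_le : S0 ≤ C3 := by
  rw [S0, closure_le]
  have h := chkB
  have h' := chkC
  simp only [Bool.and_eq_true] at h h'
  obtain ⟨⟨⟨⟨h1, b0⟩, b1⟩, b2⟩, b5⟩ := h
  obtain ⟨⟨he, he5⟩, he4⟩ := h'
  have c1 : wd [1] * wd (W 3) = wd (W 3) * wd [1] := comm_of_chk h1
  have ce : wd ew * wd (W 3) = wd (W 3) * wd ew := comm_of_chk he
  have q1 : wd [1] ∈ C3 := mem_C3 c1 (k := 2) (by rw [pow_two, wd_cons, wd_nil', mul_one]; exact lt_sq 1) (by norm_num)
  have qe : wd ew ∈ C3 := mem_C3 ce (k := 5) (by rw [← wd_pw, ← wd_nil']; exact eq_of_chk he5) (by norm_num)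
  have two : ∀ i : Fin 6, chk (pw ([1] ++ W i) 2) [] = true → wd (W i) ∈ C3 := by
    intro i hi
    have q2 : wd [1] * wd (W i) ∈ C3 := mem_C3 (comm_mul c1 (comm3 i)) (k := 2)
      (by rw [← wd_app, ← wd_pw, ← wd_nil']; exact eq_of_chk hi) (by norm_num)
    exact (mul_mem_cancel_left q1).1 q2
  rintro _ ⟨i, rfl⟩
  fin_cases i
  · exact two 0 b0
  · exact two 1 b1
  · exact two 2 b2
  · exact subset_closure (Or.inl rfl)
  · have q2 : wd ew * wd (W 4) ∈ C3 := mem_C3 (comm_mul ce (comm3 4)) (k := 5)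
      (by rw [← wd_app, ← wd_pw, ← wd_nil']; exact eq_of_chk he4) (by norm_num)
    exact (mul_mem_cancel_left qe).1 q2
  · exact two 5 b5

/-- **[3MCL-D]** -/
theorem exists_S : ∃ S : Subgroup G1, Nat.card S = 729 ∧ S ≤ centralizer ({s ^ 4} : Set G1) ∧
    S ≤ closure ({s ^ 4} ∪ {g : G1 | g * s ^ 4 = s ^ 4 * g ∧ ¬ 3 ∣ orderOf g}) := by
  let f : G1 →* G1 := (MulAut.conj (wd gw)).toMonoidHom
  have hf : Function.Injective f := (MulAut.conj (wd gw)).injective
  have hfa : ∀ x, f x = wd gw * x * (wd gw)⁻¹ := fun x => rfl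
  have hs : f (wd (W 3)) = s ^ 4 := by rw [hfa, s4_eq]
  refine ⟨S0.map f, ?_, ?_, ?_⟩
  · rw [← card_S0]
    exact (Nat.card_congr (S0.equivMapOfInjective f hf).toEquiv).symm
  · rw [map_le_iff_le_comap, S0, closure_le]
    rintro _ ⟨i, rfl⟩
    show f (wd (W i)) ∈ centralizer ({s ^ 4} : Set G1)
    rw [mem_centralizer_singleton_iff, ← hs, ← map_mul, ← map_mul, comm3 i]
  · refine (map_mono S0_le).trans ?_
    rw [C3, MonoidHom.map_closure, closure_le]
    rintro _ ⟨g, hg | ⟨hg, h3⟩, rfl⟩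
    · rw [Set.mem_singleton_iff] at hg
      rw [hg, hs]
      exact subset_closure (Or.inl rfl)
    · refine subset_closure (Or.inr ⟨?_, ?_⟩)
      · rw [← hs, ← map_mul, ← map_mul, hg]
      · rw [orderOf_injective f hf]
        exact h3

end Cfsg.Agent.H921.TI
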